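import Cfsg.Agent.H334.O8.CentZ
import Cfsg.Agent.H78.Pw.Base

/-!
# S2465: `PΩ₈⁺(2)`, order prime to six (helper876, from helper334's pairs of elements of order five)
-/

set_option autoImplicit false

namespace Cfsg.Agent.H876.PwO

open Cfsg.Agent.StdO8.Model Cfsg.Agent.StdO8.Code Cfsg.Agent.H612.Ore Cfsg.Agent.H334.O8 Cfsg.Agent.H78.Pw

/-- every element of `Om` is a product of two elements of order dividing five -/
theorem om_pair (l : Om) : ∃ a b : Om, l = a * b ∧ a ^ 5 = 1 ∧ b ^ 5 = 1 := by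
  by_cases hl : l = 1
  · exact ⟨1, 1, by rw [hl, mul_one], one_pow 5, one_pow 5⟩
  · obtain ⟨a, b, e, ha, hb⟩ := pair (l := ⟨(l : V ≃ₗ[ZMod 2] V), Om_le_O8 l.2⟩) l.2 (fun h => hl (by
      apply Subtype.ext
      exact congrArg (fun z : O8 => (z : V ≃ₗ[ZMod 2] V)) h))
    refine ⟨⟨a, mem_Om_of_F5 a.2 ha⟩, ⟨b, mem_Om_of_F5 b.2 hb⟩, ?_, ?_, ?_⟩
    · apply Subtype.ext
      exact congrArg (fun z : O8 => (z : V ≃ₗ[ZMod 2] V)) e
    · apply Subtype.ext
      exact ha.pow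
    · apply Subtype.ext
      exact hb.pow

theorem all_om {N : ℕ} (hN : Nat.Coprime 5 N) : All N Om := by
  intro l
  obtain ⟨a, b, e, ha, hb⟩ := om_pair l
  exact ⟨a, b, e, Nat.Coprime.of_dvd_left (orderOf_dvd_of_pow_eq_one ha) hN,
    Nat.Coprime.of_dvd_left (orderOf_dvd_of_pow_eq_one hb) hN⟩

/-- **`PΩ₈⁺(2)`** -/
theorem six_plus_four_two {F : Type*} [Field F] [Fintype F] (hF : Fintype.card F = 2) :
    All 6 (Cfsg.POmega F (Cfsg.quadFormPlus 4 F)) := by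
  obtain ⟨e⟩ := Cfsg.Agent.StdO8.Model.exists_equiv hF
  exact (all_om (by decide)).congr e.symm

end Cfsg.Agent.H876.PwO
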